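import Groth.Agent.GrpFieldLib.SCSection
import Groth.Agent.GeomField.ConnComp
import Groth.Prelude.Def_MoreMor

/-! Fibrewise components meeting the image of a universally open morphism. -/

set_option autoImplicit false
set_option linter.style.haveILetI false
set_option backward.isDefEq.respectTransparency false
set_option backward.isDefEq.respectTransparency.types false
universe u

open CategoryTheory CategoryTheory.Limits AlgebraicGeometry

noncomputable section

namespace Groth.Agent.CompImage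

theorem mem_image_sectionComponents {S S' X : Scheme.{u}} (f : X ⟶ S) (g : S' ⟶ S) (e : S' ⟶ X) (he : e ≫ f = g)
    (e' : S' ⟶ pullback f g) (he₁ : e' ≫ pullback.fst f g = e) (he₂ : e' ≫ pullback.snd f g = 𝟙 S')
    (s' : S') (x : X) (hx : x ∈ connectedComponentIn (f.base ⁻¹' {g s'}) (e s')) :
    x ∈ pullback.fst f g '' MoreMor.sectionComponents (pullback.snd f g) e' := by
  let s := g s'
  let k := S.residueField s
  let K := S'.residueField s'
  letI : Algebra k K := (g.residueFieldMap s').hom.toAlgebra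
  let Y := f.fiber s
  letI : Y.Over (Spec (CommRingCat.of k)) := ⟨f.fiberToSpecResidueField s⟩
  let ι : Y ⟶ X := f.fiberι s
  let a : Spec (CommRingCat.of K) ⟶ Spec (CommRingCat.of k) := Spec.map (CommRingCat.ofHom (algebraMap k K))
  have ha : a ≫ S.fromSpecResidueField s = S'.fromSpecResidueField s' ≫ g :=
    Scheme.Hom.SpecMap_residueFieldMap_fromSpecResidueField g s'
  let y : Spec (CommRingCat.of K) ⟶ Y :=
    pullback.lift (S'.fromSpecResidueField s' ≫ e) a (by rw [Category.assoc, he, ha])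
  let zK : Spec (CommRingCat.of K) ⟶ Curv2.bc k Y K := pullback.lift y (𝟙 _) (by
    rw [Category.id_comp]; exact pullback.lift_snd _ _ _)
  let q₁ := Curv2.bcFst k Y K
  let q₂ := Curv2.bcSnd k Y K
  let h : Curv2.bc k Y K ⟶ pullback f g := pullback.lift (q₁ ≫ ι) (q₂ ≫ S'.fromSpecResidueField s') (by
    have h1 : ι ≫ f = f.fiberToSpecResidueField s ≫ S.fromSpecResidueField s := pullback.condition
    have h2 : q₁ ≫ f.fiberToSpecResidueField s = q₂ ≫ a := pullback.condition
    rw [Category.assoc, Category.assoc, h1, ← ha, ← Category.assoc, h2, Category.assoc])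
  let p₀ : Spec (CommRingCat.of K) := IsLocalRing.closedPoint K
  have hpt : ∀ p : Spec (CommRingCat.of K), S'.fromSpecResidueField s' p = s' :=
    fun p => Scheme.fromSpecResidueField_apply s' p
  let z := zK p₀
  have hzy : q₁ z = y p₀ := congr($(pullback.lift_fst (f := Y ↘ Spec (CommRingCat.of k)) y (𝟙 _) _) p₀)
  have hhz : h z = e' s' := by
    have : zK ≫ h = S'.fromSpecResidueField s' ≫ e' := by
      apply pullback.hom_ext
      · rw [Category.assoc, pullback.lift_fst, ← Category.assoc, pullback.lift_fst, Category.assoc, he₁]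
        exact pullback.lift_fst _ _ _
      · rw [Category.assoc, pullback.lift_snd, ← Category.assoc, pullback.lift_snd, Category.id_comp,
          Category.assoc, he₂, Category.comp_id]
    calc h z = (zK ≫ h) p₀ := rfl
      _ = e' s' := by rw [this, Scheme.Hom.comp_apply]; exact congrArg e' (hpt p₀)
  have hιy : ι (y p₀) = e s' := by
    rw [← Scheme.Hom.comp_apply]
    rw [show y ≫ ι = S'.fromSpecResidueField s' ≫ e from pullback.lift_fst _ _ _, Scheme.Hom.comp_apply]
    exact congrArg e (hpt p₀)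
  obtain ⟨y', hy', rfl⟩ : x ∈ ι '' connectedComponent (y p₀) := by
    have hxs : x ∈ Set.range ι := by
      rw [Scheme.Hom.range_fiberι]; exact connectedComponentIn_subset _ _ hx
    obtain ⟨y', rfl⟩ := hxs
    refine ⟨y', ?_, rfl⟩
    let C := ι ⁻¹' connectedComponentIn (f.base ⁻¹' {g s'}) (e s')
    have hC : _root_.IsPreconnected C := by
      rw [← ι.isEmbedding.isInducing.isPreconnected_image, Set.image_preimage_eq_inter_range,
        Set.inter_eq_left.2 (by rw [Scheme.Hom.range_fiberι]; exact connectedComponentIn_subset _ _)]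
      exact isPreconnected_connectedComponentIn
    refine hC.subset_connectedComponent ?_ hx
    show ι (y p₀) ∈ connectedComponentIn _ _
    rw [hιy]
    exact mem_connectedComponentIn (show f (e s') = g s' by rw [← Scheme.Hom.comp_apply, he])
  rw [← hzy] at hy'
  obtain ⟨w, hw, rfl⟩ := (GeomField.image_connectedComponent (k := k) (X := Y) K z).ge hy'
  refine ⟨h w, ?_, congr($(pullback.lift_fst (f := f) (g := g) (q₁ ≫ ι) (q₂ ≫ S'.fromSpecResidueField s') _) w)⟩
  have hfib : ∀ v, pullback.snd f g (h v) = s' := fun v => by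
    rw [← Scheme.Hom.comp_apply, pullback.lift_snd, Scheme.Hom.comp_apply]
    exact hpt _
  show h w ∈ connectedComponentIn ((pullback.snd f g) ⁻¹' {pullback.snd f g (h w)}) (e' (pullback.snd f g (h w)))
  rw [hfib w]
  refine (isPreconnected_connectedComponent.image h h.continuous.continuousOn).subset_connectedComponentIn
    ⟨z, mem_connectedComponent, hhz⟩ ?_ ⟨w, hw, rfl⟩
  rintro _ ⟨v, -, rfl⟩
  exact hfib v

theorem image_sectionComponents_subset {S S' X : Scheme.{u}} (f : X ⟶ S) (g : S' ⟶ S) (e : S' ⟶ X) (he : e ≫ f = g)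
    (e' : S' ⟶ pullback f g) (he₁ : e' ≫ pullback.fst f g = e) (he₂ : e' ≫ pullback.snd f g = 𝟙 S')
    (w : ↥(pullback f g)) (hw : w ∈ MoreMor.sectionComponents (pullback.snd f g) e') :
    f (pullback.fst f g w) = g (pullback.snd f g w) ∧
      pullback.fst f g w ∈ connectedComponentIn (f.base ⁻¹' {g (pullback.snd f g w)}) (e (pullback.snd f g w)) := by
  have hc : ∀ v, f (pullback.fst f g v) = g (pullback.snd f g v) := fun v => by
    rw [← Scheme.Hom.comp_apply, pullback.condition, Scheme.Hom.comp_apply]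
  refine ⟨hc w, ?_⟩
  let s' := pullback.snd f g w
  have hs : e' s' ∈ (pullback.snd f g) ⁻¹' {s'} := by
    show pullback.snd f g (e' s') = s'
    rw [← Scheme.Hom.comp_apply, he₂]; rfl
  refine (isPreconnected_connectedComponentIn.image (pullback.fst f g) (pullback.fst f g).continuous.continuousOn).subset_connectedComponentIn
    (F := f.base ⁻¹' {g s'}) ⟨e' s', mem_connectedComponentIn hs, by rw [← Scheme.Hom.comp_apply, he₁]⟩ ?_ ⟨w, hw, rfl⟩
  rintro _ ⟨v, hv, rfl⟩
  show f (pullback.fst f g v) = g s'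
  have hvs : v ∈ (pullback.snd f g) ⁻¹' {s'} := connectedComponentIn_subset _ _ hv
  rw [hc v, show pullback.snd f g v = s' from hvs]

theorem exists_open {S S' X : Scheme.{u}} (f : X ⟶ S) [Smooth f] [QuasiSeparated f] (g : S' ⟶ S) [UniversallyOpen g]
    (e : S' ⟶ X) (he : e ≫ f = g) :
    ∃ U : X.Opens, ∀ s : S, (U : Set ↥X) ∩ f.base ⁻¹' {s} =
      ⋃ x ∈ Set.range e.base ∩ f.base ⁻¹' {s}, connectedComponentIn (f.base ⁻¹' {s}) x := by
  let g' : ∀ V : S'.affineOpens, (V.1 : Scheme.{u}) ⟶ S := fun V => V.1.ι ≫ g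
  let e' : ∀ V : S'.affineOpens, (V.1 : Scheme.{u}) ⟶ pullback f (g' V) := fun V =>
    pullback.lift (V.1.ι ≫ e) (𝟙 _) (by rw [Category.assoc, he, Category.id_comp])
  have he₁ : ∀ V, e' V ≫ pullback.fst f (g' V) = V.1.ι ≫ e := fun V => pullback.lift_fst _ _ _
  have he₂ : ∀ V, e' V ≫ pullback.snd f (g' V) = 𝟙 _ := fun V => pullback.lift_snd _ _ _
  have he' : ∀ V : S'.affineOpens, (V.1.ι ≫ e) ≫ f = g' V := fun V => by rw [Category.assoc, he]
  let A : S'.affineOpens → Set X := fun V =>
    pullback.fst f (g' V) '' MoreMor.sectionComponents (pullback.snd f (g' V)) (e' V)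
  have hA : ∀ V, IsOpen (A V) := fun V => by
    haveI : IsAffine V.1.toScheme := V.2
    haveI : UniversallyOpen (g' V) := inferInstanceAs (UniversallyOpen (V.1.ι ≫ g))
    haveI : UniversallyOpen (pullback.fst f (g' V)) := MorphismProperty.pullback_fst _ _ inferInstance
    haveI : QuasiSeparatedSpace ↥(pullback f (g' V)) := quasiSeparatedSpace_of_quasiSeparated (pullback.snd f (g' V))
    exact (pullback.fst f (g' V)).isOpenMap _ (GrpFieldLib.SecComp.isOpen_sectionComponents _ (e' V) (he₂ V))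
  refine ⟨⟨⋃ V, A V, isOpen_iUnion hA⟩, fun s => Set.ext fun x => ?_⟩
  simp only [Set.mem_inter_iff, Set.mem_preimage, Set.mem_singleton_iff, Set.mem_iUnion, exists_prop]
  constructor
  · rintro ⟨hx, hxs⟩
    obtain ⟨V, w, hw, rfl⟩ := Set.mem_iUnion.1 hx
    obtain ⟨h1, h2⟩ := image_sectionComponents_subset f (g' V) (V.1.ι ≫ e) (he' V) (e' V) (he₁ V) (he₂ V) w hw
    have hs : g' V (pullback.snd f (g' V) w) = s := h1.symm.trans hxs
    rw [hs] at h2
    exact ⟨_, ⟨⟨V.1.ι (pullback.snd f (g' V) w), rfl⟩,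
      (connectedComponentIn_nonempty_iff.1 ⟨_, h2⟩ : (V.1.ι ≫ e) (pullback.snd f (g' V) w) ∈ f.base ⁻¹' {s})⟩, h2⟩
  · rintro ⟨z, ⟨⟨s', rfl⟩, hzs⟩, hx⟩
    have hxs : f x = s := (connectedComponentIn_subset (f.base ⁻¹' {s}) _ hx : x ∈ f.base ⁻¹' {s})
    refine ⟨?_, hxs⟩
    obtain ⟨V, hV, hsV, -⟩ := exists_isAffineOpen_mem_and_subset (x := s') (U := ⊤) trivial
    refine Set.mem_iUnion.2 ⟨⟨V, hV⟩, mem_image_sectionComponents f _ _ (he' ⟨V, hV⟩) _ (he₁ _) (he₂ _) ⟨s', hsV⟩ x ?_⟩
    have hg : g' ⟨V, hV⟩ ⟨s', hsV⟩ = s := by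
      show g s' = s
      rw [← hzs, ← he]; rfl
    rw [hg]
    exact hx

end Groth.Agent.CompImage
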